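import Cfsg.Agent.Lib.Recog.SporBound.Fi22Outer.FixChecks.Defs

set_option autoImplicit false
set_option maxRecDepth 20000
set_option Elab.async false

/-! Kernel checks of the bounds for the centralizers of the outer involutions of Fi22 (owner: helper24). -/

namespace CfsgLib.Recog.SporBound.Fi22Outer

open CfsgLib.Recog.SporBound.Fi22Pair
open CfsgLib.Recog.SporBound.Fi22Aut (pal comB)
open CfsgLib.Recog.SporBound.PatternBound

/-- The steps for representative 0. -/
def steps0 : List Step := stepData.getD 0 []

theorem counts0_0 : counts 0 (((List.range 3510).drop 0).take 585) steps0 [] = [75, 13, 6, 2, 1, 1, 0, 0] := by decide +kernel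

theorem counts0_1 : counts 0 (((List.range 3510).drop 585).take 585) steps0 [] = [30, 3, 7, 0, 0, 0, 0, 0] := by decide +kernel

theorem counts0_2 : counts 0 (((List.range 3510).drop 1170).take 585) steps0 [] = [40, 9, 2, 0, 0, 1, 2, 0] := by decide +kernel

theorem counts0_3 : counts 0 (((List.range 3510).drop 1755).take 585) steps0 [] = [46, 7, 5, 3, 2, 0, 0, 0] := by decide +kernel

theorem counts0_4 : counts 0 (((List.range 3510).drop 2340).take 585) steps0 [] = [73, 14, 7, 3, 0, 3, 0, 0] := by decide +kernel

theorem counts0_5 : counts 0 ((List.range 3510).drop 2925) steps0 [] = [96, 17, 5, 4, 2, 1, 2, 2] := by decide +kernel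

theorem counts0_all : counts 0 (List.range 3510) steps0 [] = [360, 63, 32, 12, 5, 6, 4, 2] := by
  have h := counts0_5
  replace h := counts_drop 0 2340 585 _ _ _ _ counts0_4 h
  replace h := counts_drop 0 1755 585 _ _ _ _ counts0_3 h
  replace h := counts_drop 0 1170 585 _ _ _ _ counts0_2 h
  replace h := counts_drop 0 585 585 _ _ _ _ counts0_1 h
  replace h := counts_drop 0 0 585 _ _ _ _ counts0_0 h
  rw [List.drop_zero] at h
  rw [h]
  rfl

theorem bound0 : boundOK 0 1045094400 = true := by
  have hs : shapeOK 0 3510 steps0 [] [360, 63, 32, 12, 5, 6, 4, 2] = true := by decide +kernel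
  rw [← counts0_all] at hs
  have h1 : stepsOK cjN (ev (repD 0)) relN (invN 0) (List.range 3510) (stepData.getD 0 []) [] = true :=
    stepsOK_of_shape 0 3510 _ _ hs
  have h2 : (Nat.ble (total (stepData.getD 0 [])) (2 * 1045094400) &&
      glData.all fun c => (known cjN (ev (repD 0)) (stepData.getD 0 []) []).contains c) = true := by
    decide +kernel
  rw [Bool.and_eq_true] at h2
  rw [boundOK, h1, h2.1, h2.2]
  rfl

end CfsgLib.Recog.SporBound.Fi22Outer
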