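import Cfsg.Agent.Lib.Recog.SporBound.Fi22Outer.FixChecks.Defs

set_option autoImplicit false
set_option maxRecDepth 20000
set_option Elab.async false

/-! Kernel checks of the bounds for the centralizers of the outer involutions of Fi22 (owner: helper24). -/

namespace CfsgLib.Recog.SporBound.Fi22Outer

open CfsgLib.Recog.SporBound.Fi22Pair
open CfsgLib.Recog.SporBound.Fi22Aut (pal comB)
open CfsgLib.Recog.SporBound.PatternBound

/-- The steps for representative 1. -/
def steps1 : List Step := stepData.getD 1 []

theorem counts1_0 : counts 1 (((List.range 3510).drop 0).take 585) steps1 [] = [1, 16, 8, 10, 2, 2, 0, 0] := by decide +kernel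

theorem counts1_1 : counts 1 (((List.range 3510).drop 585).take 585) steps1 [] = [0, 5, 3, 10, 0, 2, 0, 1] := by decide +kernel

theorem counts1_2 : counts 1 (((List.range 3510).drop 1170).take 585) steps1 [] = [0, 6, 3, 4, 2, 0, 0, 0] := by decide +kernel

theorem counts1_3 : counts 1 (((List.range 3510).drop 1755).take 585) steps1 [] = [0, 6, 4, 6, 1, 0, 0, 0] := by decide +kernel

theorem counts1_4 : counts 1 (((List.range 3510).drop 2340).take 585) steps1 [] = [0, 17, 8, 0, 2, 2, 0, 1] := by decide +kernel

theorem counts1_5 : counts 1 ((List.range 3510).drop 2925) steps1 [] = [0, 13, 6, 0, 1, 0, 1, 0] := by decide +kernel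

theorem counts1_all : counts 1 (List.range 3510) steps1 [] = [1, 63, 32, 30, 8, 6, 1, 2] := by
  have h := counts1_5
  replace h := counts_drop 1 2340 585 _ _ _ _ counts1_4 h
  replace h := counts_drop 1 1755 585 _ _ _ _ counts1_3 h
  replace h := counts_drop 1 1170 585 _ _ _ _ counts1_2 h
  replace h := counts_drop 1 585 585 _ _ _ _ counts1_1 h
  replace h := counts_drop 1 0 585 _ _ _ _ counts1_0 h
  rw [List.drop_zero] at h
  rw [h]
  rfl

theorem bound1 : boundOK 1 2903040 = true := by
  have hs : shapeOK 1 3510 steps1 [] [1, 63, 32, 30, 8, 6, 1, 2] = true := by decide +kernel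
  rw [← counts1_all] at hs
  have h1 : stepsOK cjN (ev (repD 1)) relN (invN 1) (List.range 3510) (stepData.getD 1 []) [] = true :=
    stepsOK_of_shape 1 3510 _ _ hs
  have h2 : (Nat.ble (total (stepData.getD 1 [])) (2 * 2903040) &&
      glData.all fun c => (known cjN (ev (repD 1)) (stepData.getD 1 []) []).contains c) = true := by
    decide +kernel
  rw [Bool.and_eq_true] at h2
  rw [boundOK, h1, h2.1, h2.2]
  rfl

end CfsgLib.Recog.SporBound.Fi22Outer
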