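import Cfsg.Agent.Lib.Recog.SporBound.Fi22Outer.FixChecks.Defs

set_option autoImplicit false
set_option maxRecDepth 20000
set_option Elab.async false

/-! Kernel checks of the bounds for the centralizers of the outer involutions of Fi22 (owner: helper24). -/

namespace CfsgLib.Recog.SporBound.Fi22Outer

open CfsgLib.Recog.SporBound.Fi22Pair
open CfsgLib.Recog.SporBound.Fi22Aut (pal comB)
open CfsgLib.Recog.SporBound.PatternBound

/-- The steps for representative 2. -/
def steps2 : List Step := stepData.getD 2 []

theorem counts2_0 : counts 2 (((List.range 3510).drop 0).take 585) steps2 [] = [23, 9, 6, 4, 1, 1, 0, 0] := by decide +kernel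

theorem counts2_1 : counts 2 (((List.range 3510).drop 585).take 585) steps2 [] = [6, 1, 2, 0, 1, 0, 0, 2] := by decide +kernel

theorem counts2_2 : counts 2 (((List.range 3510).drop 1170).take 585) steps2 [] = [12, 7, 2, 3, 0, 0, 2, 0] := by decide +kernel

theorem counts2_3 : counts 2 (((List.range 3510).drop 1755).take 585) steps2 [] = [3, 2, 0, 1, 0, 0, 0, 0] := by decide +kernel

theorem counts2_4 : counts 2 (((List.range 3510).drop 2340).take 585) steps2 [] = [13, 10, 0, 2, 0, 0, 2, 0] := by decide +kernel

theorem counts2_5 : counts 2 ((List.range 3510).drop 2925) steps2 [] = [15, 11, 2, 2, 0, 0, 0, 0] := by decide +kernel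

theorem counts2_all : counts 2 (List.range 3510) steps2 [] = [72, 40, 12, 12, 2, 1, 4, 2] := by
  have h := counts2_5
  replace h := counts_drop 2 2340 585 _ _ _ _ counts2_4 h
  replace h := counts_drop 2 1755 585 _ _ _ _ counts2_3 h
  replace h := counts_drop 2 1170 585 _ _ _ _ counts2_2 h
  replace h := counts_drop 2 585 585 _ _ _ _ counts2_1 h
  replace h := counts_drop 2 0 585 _ _ _ _ counts2_0 h
  rw [List.drop_zero] at h
  rw [h]
  rfl

theorem bound2 : boundOK 2 3317760 = true := by
  have hs : shapeOK 2 3510 steps2 [] [72, 40, 12, 12, 2, 1, 4, 2] = true := by decide +kernel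
  rw [← counts2_all] at hs
  have h1 : stepsOK cjN (ev (repD 2)) relN (invN 2) (List.range 3510) (stepData.getD 2 []) [] = true :=
    stepsOK_of_shape 2 3510 _ _ hs
  have h2 : (Nat.ble (total (stepData.getD 2 [])) (2 * 3317760) &&
      glData.all fun c => (known cjN (ev (repD 2)) (stepData.getD 2 []) []).contains c) = true := by
    decide +kernel
  rw [Bool.and_eq_true] at h2
  rw [boundOK, h1, h2.1, h2.2]
  rfl

end CfsgLib.Recog.SporBound.Fi22Outer
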