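import Cfsg.Agent.Lib.Recog.SporBound.Fi22Outer.Checks
import Cfsg.Agent.Lib.Recog.SporBound.Fi22Outer.FixData

set_option autoImplicit false
set_option maxRecDepth 20000
set_option Elab.async false

/-! Kernel checks of the bounds for the centralizers of the outer involutions of Fi22 (owner: helper24). -/

namespace CfsgLib.Recog.SporBound.Fi22Outer

open CfsgLib.Recog.SporBound.Fi22Pair
open CfsgLib.Recog.SporBound.Fi22Aut (pal comB)
open CfsgLib.Recog.SporBound.PatternBound

/-- A representative's datum. -/
def repD (i : ℕ) : Bool × List ℕ := repData.getD i zData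

/-- The transposition of `r` applied to `s`. -/
noncomputable def cjN (r s : ℕ) : ℕ := CfsgLib.ThreeTrans.CosetIndex.FiHat3510.data.trace s (pal r)

/-- Equal, commuting, or neither. -/
noncomputable def relN (r s : ℕ) : ℕ := cond (Nat.beq r s) 2 (cond (comB r s) 1 0)

/-- The list of fixed rows used by the invariant. -/
def fixList (i : ℕ) : List ℕ := cond (Nat.beq i 1) fixOne []

/-- The invariant of a row. -/
noncomputable def invN (i r : ℕ) : ℕ :=
  let fx := Nat.beq (ev (repD i) r) r
  cond fx 1 0 + cond (comB r (ev (repD i) r)) 2 0 + cond (fx && (fixList i).all fun c => comB r c) 4 0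

/-- The check of a bound. -/
noncomputable def boundOK (i g : ℕ) : Bool :=
  stepsOK cjN (ev (repD i)) relN (invN i) (List.range 3510) (stepData.getD i []) [] &&
    Nat.ble (total (stepData.getD i [])) (2 * g) &&
      glData.all fun c => (known cjN (ev (repD i)) (stepData.getD i []) []).contains c

/-- The numbers of candidates among some rows. -/
noncomputable def counts (i : ℕ) (L : List ℕ) : List Step → List ℕ → List ℕ
  | [], _ => []
  | .base u cols _ :: st, kn =>
      L.countP (sameB relN (invN i) kn cols u) :: counts i L st (kn ++ [u])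
  | .tu a :: st, kn => counts i L st (kn ++ [ev (repD i) (kn.getD a 0)])
  | .cj a b :: st, kn => counts i L st (kn ++ [cjN (kn.getD a 0) (kn.getD b 0)])

/-- The check of the steps given the numbers of candidates among the first `n` numbers. -/
noncomputable def shapeOK (i n : ℕ) : List Step → List ℕ → List ℕ → Bool
  | [], _, _ => true
  | .base u cols c :: st, kn, d :: ds =>
      (cols.all fun k => Nat.blt k kn.length) && Nat.blt u n && Nat.ble d c && shapeOK i n st (kn ++ [u]) ds
  | .base _ _ _ :: _, _, [] => false
  | .tu a :: st, kn, ds => Nat.blt a kn.length && shapeOK i n st (kn ++ [ev (repD i) (kn.getD a 0)]) ds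
  | .cj a b :: st, kn, ds =>
      Nat.blt a kn.length && Nat.blt b kn.length && shapeOK i n st (kn ++ [cjN (kn.getD a 0) (kn.getD b 0)]) ds

theorem stepsOK_of_shape (i n : ℕ) : ∀ (st : List Step) (kn : List ℕ),
    shapeOK i n st kn (counts i (List.range n) st kn) = true →
      stepsOK cjN (ev (repD i)) relN (invN i) (List.range n) st kn = true
  | [], _, _ => rfl
  | .base u cols c :: st, kn, h => by
    simp only [counts, shapeOK, Bool.and_eq_true, Nat.blt_eq] at h
    simp only [stepsOK, Bool.and_eq_true, Nat.blt_eq]
    exact ⟨⟨⟨h.1.1.1, by simpa using h.1.1.2⟩, h.1.2⟩, stepsOK_of_shape i n st _ h.2⟩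
  | .tu a :: st, kn, h => by
    simp only [counts, shapeOK, Bool.and_eq_true] at h
    simp only [stepsOK, Bool.and_eq_true]
    exact ⟨h.1, stepsOK_of_shape i n st _ h.2⟩
  | .cj a b :: st, kn, h => by
    simp only [counts, shapeOK, Bool.and_eq_true] at h
    simp only [stepsOK, Bool.and_eq_true]
    exact ⟨h.1, stepsOK_of_shape i n st _ h.2⟩

theorem counts_append (i : ℕ) (A B : List ℕ) : ∀ (st : List Step) (kn : List ℕ),
    counts i (A ++ B) st kn = List.zipWith (· + ·) (counts i A st kn) (counts i B st kn)
  | [], _ => rfl
  | .base u cols c :: st, kn => by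
    simp only [counts, List.countP_append, List.zipWith_cons_cons, counts_append i A B st]
  | .tu a :: st, kn => by simp only [counts, counts_append i A B st]
  | .cj a b :: st, kn => by simp only [counts, counts_append i A B st]

theorem counts_drop (i a n : ℕ) (l : List ℕ) (st : List Step) (c d : List ℕ)
    (h : counts i ((l.drop a).take n) st [] = c) (h' : counts i (l.drop (a + n)) st [] = d) :
    counts i (l.drop a) st [] = List.zipWith (· + ·) c d := by
  rw [← List.take_append_drop n (l.drop a), counts_append, h, List.drop_drop, h']

end CfsgLib.Recog.SporBound.Fi22Outer
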