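import Cfsg.Agent.Lib.Recog.SporBound.Fi22Outer.FixChecks.Defs

set_option autoImplicit false
set_option maxRecDepth 20000
set_option Elab.async false

/-! Kernel checks of the bounds for the centralizers of the outer involutions of Fi22 (owner: helper24). -/

namespace CfsgLib.Recog.SporBound.Fi22Outer

open CfsgLib.Recog.SporBound.Fi22Pair
open CfsgLib.Recog.SporBound.Fi22Aut (pal comB)
open CfsgLib.Recog.SporBound.PatternBound

theorem fix_filter : (List.range 3510).filter (fun r => Nat.beq (ev (repD 1) r) r) = fixOne := by decide +kernel

theorem fixOne_ok : ((List.range 3510).all fun r => Nat.beq (ev (repD 1) r) r == fixOne.contains r) = true := by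
  rw [List.all_eq_true]
  intro r hr
  rw [beq_iff_eq, ← fix_filter, Bool.eq_iff_iff, List.contains_iff_mem, List.mem_filter]
  simp [hr]

end CfsgLib.Recog.SporBound.Fi22Outer
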